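import Groth.Agent.SGA7.RigidAutMain
import Groth.Agent.AlgGrp1.TangentOpen
import Groth.Agent.GrpschAbsch.Basic
import Groth.Prelude.Def_AutSch
import Mathlib.AlgebraicGeometry.Morphisms.FormallyUnramified
import Mathlib.RingTheory.Ideal.IdempotentFG

/-!
The automorphism group scheme of a scheme over a field is unramified iff there is no vector field.
-/

set_option autoImplicit false
set_option backward.isDefEq.respectTransparency false
set_option backward.isDefEq.respectTransparency.types false
set_option linter.style.longLine false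

noncomputable section

universe u

open CategoryTheory MonoidalCategory CartesianMonoidalCategory MonObj GrpObj AlgebraicGeometry

namespace Groth.Misc71

open ArtFun Groth.SGA7Def Groth.ArtfunDeform

section Tangent

variable {k : Type u} [Field k] (G : Over (Spec (CommRingCat.of k))) [GrpObj G]

/-- The point `Spec k[ε]` over `k`. -/
abbrev dualPt (k : Type u) [Field k] : Over (Spec (CommRingCat.of k)) :=
  Over.mk (Spec.map (CommRingCat.ofHom (algebraMap k (DualNumber k))))

/-- The closed point of `Spec k[ε]`. -/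
abbrev dualZero (k : Type u) [Field k] : 𝟙_ (Over (Spec (CommRingCat.of k))) ⟶ dualPt k :=
  Over.homMk (Spec.map (CommRingCat.ofHom (TrivSqZeroExt.fstHom k k k).toRingHom)) (by
    change Spec.map _ ≫ Spec.map _ = 𝟙 _
    rw [← Spec.map_comp, ← Spec.map_id]
    congr 1)

/-- No non-trivial tangent vector at the identity. -/
def NoTangent : Prop :=
  ∀ t : dualPt k ⟶ G, dualZero k ≫ t = η[G] → t = toUnit (dualPt k) ≫ η[G]

lemma dualZero_surjective : Function.Surjective (dualZero k).left.base := fun (z : PrimeSpectrum (DualNumber k)) => by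
  let m := RingHom.ker (TrivSqZeroExt.fstHom k k k).toRingHom
  have hm : m.IsMaximal := RingHom.ker_isMaximal_of_surjective _ (fun r => ⟨TrivSqZeroExt.inl r, by simp⟩)
  have hle : m ≤ z.asIdeal := fun x hx => z.2.mem_of_pow_mem 2 (by
    have hx0 : x.fst = 0 := RingHom.mem_ker.1 hx
    have : x ^ 2 = 0 := by ext <;> simp [pow_two, hx0]
    rw [this]; exact zero_mem _)
  refine ⟨(default : PrimeSpectrum k), PrimeSpectrum.ext ?_⟩
  show Ideal.comap _ (default : PrimeSpectrum k).asIdeal = z.asIdeal
  rw [← hm.eq_of_le z.2.ne_top hle, Ideal.eq_bot_of_prime (default : PrimeSpectrum k).asIdeal]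
  rfl

lemma noTangent_of_formallyUnramified [LocallyOfFiniteType G.hom] [FormallyUnramified G.hom] : NoTangent G := by
  intro t ht
  have hu : toUnit (𝟙_ (Over (Spec (CommRingCat.of k)))) = 𝟙 _ := toUnit_unique _ _
  have h0 : dualZero k ≫ toUnit (dualPt k) ≫ η[G] = η[G] := by
    rw [← Category.assoc, comp_toUnit, hu, Category.id_comp]
  apply Over.OverMorphism.ext
  let v₁ := t.left
  let v₂ := (toUnit (dualPt k) ≫ η[G]).left
  let L : (dualPt k).left ⟶ Limits.pullback G.hom G.hom :=
    Limits.pullback.lift v₁ v₂ ((Over.w t).trans (Over.w _).symm)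
  let i := (dualZero k).left
  have h12 : i ≫ v₁ = i ≫ v₂ := congrArg CommaMorphism.left (ht.trans h0.symm)
  have hi : i ≫ L = (i ≫ v₁) ≫ Limits.pullback.diagonal G.hom := by
    apply Limits.pullback.hom_ext
    · rw [Category.assoc, Category.assoc, Limits.pullback.diagonal_fst, Category.comp_id]
      exact congrArg (i ≫ ·) (Limits.pullback.lift_fst v₁ v₂ _)
    · rw [Category.assoc, Category.assoc, Limits.pullback.diagonal_snd, Category.comp_id]
      exact (congrArg (i ≫ ·) (Limits.pullback.lift_snd v₁ v₂ _)).trans h12.symm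
  have hrange : Set.range L.base ⊆ Set.range (Limits.pullback.diagonal G.hom).base := by
    rintro _ ⟨z, rfl⟩
    obtain ⟨w, rfl⟩ := dualZero_surjective z
    exact ⟨(i ≫ v₁).base w, by rw [← Scheme.Hom.comp_apply, ← hi, Scheme.Hom.comp_apply]⟩
  have h := IsOpenImmersion.lift_fac (Limits.pullback.diagonal G.hom) L hrange
  have e1 := congrArg (· ≫ Limits.pullback.fst G.hom G.hom) h
  have e2 := congrArg (· ≫ Limits.pullback.snd G.hom G.hom) h
  simp only [L, Category.assoc, Limits.pullback.diagonal_fst, Limits.pullback.diagonal_snd, Category.comp_id,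
    Limits.pullback.lift_fst, Limits.pullback.lift_snd] at e1 e2
  exact e1.symm.trans e2

open scoped DualNumber in
lemma formallyUnramified_of_noTangent [LocallyOfFiniteType G.hom] (h : NoTangent G) : FormallyUnramified G.hom := by
  suffices hη : IsOpenImmersion η[G].left by
    rw [GrpschAbsch.unit_left_mem_iff @IsOpenImmersion G] at hη
    infer_instance
  let σ : Spec (CommRingCat.of k) ⟶ G.left := η[G].left
  let z : Spec (CommRingCat.of k) := (default : PrimeSpectrum k)
  obtain ⟨U, hU, hzU, -⟩ := exists_isAffineOpen_mem_and_subset (x := σ.base z) (U := ⊤) trivial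
  have hσU : ⊤ ≤ σ ⁻¹ᵁ U := fun y _ => by
    rw [Subsingleton.elim (α := PrimeSpectrum k) y z]
    exact hzU
  let R := Γ(G.left, U)
  let c : Spec R ⟶ G.left := hU.fromSpec
  have hrange : Set.range σ.base ⊆ Set.range c.base := by
    rintro _ ⟨y, rfl⟩
    rw [IsAffineOpen.range_fromSpec]
    exact hσU (show y ∈ (⊤ : (Spec (CommRingCat.of k)).Opens) from trivial)
  obtain ⟨p, hp⟩ := Spec.map_surjective (IsOpenImmersion.lift c σ hrange)
  have hfac : Spec.map p ≫ c = σ := hp ▸ IsOpenImmersion.lift_fac c σ hrange
  obtain ⟨φ, hφ⟩ := Spec.map_surjective (c ≫ G.hom)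
  have hft : LocallyOfFiniteType (c ≫ G.hom) := inferInstance
  rw [← hφ, HasRingHomProperty.Spec_iff (P := @LocallyOfFiniteType)] at hft
  letI : Algebra k R := φ.hom.toAlgebra
  haveI : Algebra.FiniteType k R := hft
  haveI : IsNoetherianRing R := Algebra.FiniteType.isNoetherianRing k R
  have hpφ : φ ≫ p = 𝟙 _ := Spec.map_injective <| by
    rw [Spec.map_comp, Spec.map_id, hφ, ← Category.assoc, hfac]
    exact Over.w η[G]
  let pA : R →ₐ[k] k := { p.hom with commutes' := fun r => congr($hpφ r) }
  have hsurj : Function.Surjective p.hom := fun r => ⟨algebraMap k R r, congr($hpφ r)⟩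
  have hop : IsOpenImmersion (Spec.map p) := by
    rw [isOpenImmersion_SpecMap_iff_of_surjective p hsurj]
    refine (Ideal.isIdempotentElem_iff_of_fg _ (IsNoetherian.noetherian _)).1 ?_
    refine le_antisymm Ideal.mul_le_right fun a ha => ?_
    have : a ∈ RingHom.ker pA ^ 2 := Groth.AlgGrp1.TangentOpen.mem_sq_of_tangent pA ha fun P hP => by
      have hPφ : φ ≫ CommRingCat.ofHom P.toRingHom = CommRingCat.ofHom (algebraMap k k[ε]) :=
        CommRingCat.hom_ext (RingHom.ext fun r => P.commutes r)
      let t : dualPt k ⟶ G := Over.homMk (Spec.map (CommRingCat.ofHom P.toRingHom) ≫ c) (by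
        rw [Category.assoc, ← hφ, ← Spec.map_comp, hPφ]
        rfl)
      have ht : dualZero k ≫ t = η[G] := by
        apply Over.OverMorphism.ext
        change Spec.map _ ≫ Spec.map _ ≫ c = σ
        rw [← Spec.map_comp_assoc, ← CommRingCat.ofHom_comp, ← hfac]
        congr 2
        exact CommRingCat.hom_ext (RingHom.ext fun r => hP r)
      have e := congrArg CommaMorphism.left (h t ht)
      change Spec.map _ ≫ c = Spec.map _ ≫ σ at e
      rw [← hfac, ← Spec.map_comp_assoc, cancel_mono, Spec.map_inj] at e
      have e2 : P a = algebraMap k k[ε] (pA a) := congr($e a)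
      rw [e2, show pA a = 0 from ha, map_zero]
    rwa [pow_two] at this
  rw [show η[G].left = Spec.map p ≫ c from hfac.symm]
  infer_instance

end Tangent

section Aut

variable {k : Type u} [Field k] {X : Over (Spec (CommRingCat.of k))}

lemma endOf_famOf_comp {G : Over (Spec (CommRingCat.of k))} [GrpObj G] (a : AlgGrp.Action G X)
    {T : Over (Spec (CommRingCat.of k))} (g g' : T ⟶ G) :
    AutSch.endOf (AutSch.famOf a g) ≫ AutSch.famOf a g' = AutSch.famOf a (g' * g) := by
  simp only [AutSch.famOf, ← Category.assoc, comp_lift, AutSch.endOf_snd, AutSch.endOf_fst]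
  rw [MonObj.comp_mul, Hom.mul_def,
    show lift (lift (snd X T ≫ g') (snd X T ≫ g) ≫ μ[G]) (fst X T) =
      lift (lift (snd X T ≫ g') (snd X T ≫ g)) (fst X T) ≫ (μ[G] ▷ X) by simp,
    Category.assoc _ _ a.act, a.mul_act]
  simp

lemma one_eq_toUnit_comp {G : Over (Spec (CommRingCat.of k))} [GrpObj G] {T : Over (Spec (CommRingCat.of k))} :
    (1 : T ⟶ G) = toUnit T ≫ η[G] := Hom.one_def

open AutSch in
lemma noTangent_iff_rigid (G : Over (Spec (CommRingCat.of k))) [GrpObj G] (a : AlgGrp.Action G X)
    (hG : Represents X G a) :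
    NoTangent G ↔ ∀ e : (DefSch.trivial X.left X.hom (flat_of_field X.hom) (Art.dual k k)).Iso
        (DefSch.trivial X.left X.hom (flat_of_field X.hom) (Art.dual k k)),
      e.iso.hom = 𝟙 _ := by
  let T := dualPt k
  let s := dualZero k
  have hu : toUnit (𝟙_ (Over (Spec (CommRingCat.of k)))) = 𝟙 _ := toUnit_unique _ _
  have hfam : ∀ {U : Over (Spec (CommRingCat.of k))}, famOf a (toUnit U ≫ η[G]) = fst X U := fun {U} => by
    rw [famOf, ← Category.assoc, comp_toUnit,
      show lift (toUnit (X ⊗ U) ≫ η[G]) (fst X U) = lift (toUnit (X ⊗ U)) (fst X U) ≫ (η[G] ▷ X) by simp,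
      Category.assoc, a.one_act, lift_leftUnitor_hom]
  have hid : ∀ {U : Over (Spec (CommRingCat.of k))}, IsAutFamily (fst X U) := fun {U} => by
    rw [IsAutFamily, show endOf (fst X U) = 𝟙 _ from by ext <;> simp [endOf]]
    infer_instance
  -- inclusion of the closed fibre
  have hi : (lift (𝟙 X) (toUnit X ≫ s)).left =
      (DefSch.trivial X.left X.hom (flat_of_field X.hom) (Art.dual k k)).i := by
    apply Limits.pullback.hom_ext
    · refine (GrpschAbsch.lift_left_comp_fst _ _).trans ?_
      exact (Limits.pullback.lift_fst _ _ _).symm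
    · refine (congr(($(lift_snd (𝟙 X) (toUnit X ≫ s))).left)).trans ?_
      exact (Limits.pullback.lift_snd _ _ _).symm
  constructor
  · intro h e
    let Ψ : X ⊗ T ⟶ X ⊗ T := Over.homMk e.iso.hom (by
      rw [Over.tensorObj_hom, Limits.pullback.condition, ← Category.assoc]
      exact congrArg (· ≫ _) e.hom_f)
    haveI hisoL : IsIso Ψ.left := inferInstanceAs (IsIso e.iso.hom)
    haveI : IsIso Ψ := by
      haveI : IsIso ((Over.forget _).map Ψ) := hisoL
      exact isIso_of_reflects_iso Ψ (Over.forget _)
    have hsnd : Ψ ≫ snd X T = snd X T := Over.OverMorphism.ext e.hom_f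
    have hφ : IsAutFamily (Ψ ≫ fst X T) := by
      rw [IsAutFamily, show endOf (Ψ ≫ fst X T) = Ψ from by
        apply CartesianMonoidalCategory.hom_ext <;> simp [endOf, hsnd]]
      infer_instance
    obtain ⟨g, hg, -⟩ := (represents_iff G a).1 hG T _ hφ
    have hsg : s ≫ g = η[G] := by
      obtain ⟨g0, -, huniq⟩ := (represents_iff G a).1 hG (𝟙_ _) (fst X _) hid
      refine (huniq _ ?_).trans (huniq _ ?_).symm
      · dsimp only
        rw [famOf_comp, hg, pullFam,
          show X ◁ s = fst X (𝟙_ _) ≫ lift (𝟙 X) (toUnit X ≫ s) from by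
            apply CartesianMonoidalCategory.hom_ext
            · simp
            · simp only [whiskerLeft_snd, Category.assoc, lift_snd]
              rw [← Category.assoc, comp_toUnit, toUnit_unique (toUnit (X ⊗ 𝟙_ _)) (snd X (𝟙_ _))]]
        have : lift (𝟙 X) (toUnit X ≫ s) ≫ Ψ = lift (𝟙 X) (toUnit X ≫ s) :=
          Over.OverMorphism.ext (by
            change (lift (𝟙 X) (toUnit X ≫ s)).left ≫ e.iso.hom = (lift (𝟙 X) (toUnit X ≫ s)).left
            rw [hi]
            exact e.i_hom)
        rw [Category.assoc, reassoc_of% this, lift_fst, Category.comp_id]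
      · dsimp only
        have := hfam (U := 𝟙_ (Over (Spec (CommRingCat.of k))))
        rwa [hu, Category.id_comp] at this
    have hg1 := h g hsg
    subst hg1
    have hfst : Ψ ≫ fst X T = fst X T := hg.symm.trans hfam
    have hΨ : Ψ = 𝟙 _ := CartesianMonoidalCategory.hom_ext _ _
      (by rw [Category.id_comp]; exact hfst) (by rw [Category.id_comp]; exact hsnd)
    exact congrArg CommaMorphism.left hΨ
  · intro h t ht
    have hφ : IsAutFamily (famOf a t) := by
      rw [IsAutFamily]
      refine ⟨endOf (famOf a t⁻¹), ?_, ?_⟩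
      · apply CartesianMonoidalCategory.hom_ext
        · rw [Category.assoc, endOf_fst, endOf_famOf_comp, inv_mul_cancel, one_eq_toUnit_comp, hfam, Category.id_comp]
        · simp
      · apply CartesianMonoidalCategory.hom_ext
        · rw [Category.assoc, endOf_fst, endOf_famOf_comp, mul_inv_cancel, one_eq_toUnit_comp, hfam, Category.id_comp]
        · simp
    haveI : IsIso (endOf (famOf a t)) := hφ
    haveI hisoL : IsIso (endOf (famOf a t)).left := inferInstance
    let e : (DefSch.trivial X.left X.hom (flat_of_field X.hom) (Art.dual k k)).Iso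
        (DefSch.trivial X.left X.hom (flat_of_field X.hom) (Art.dual k k)) :=
      { iso := @asIso _ _ _ _ (endOf (famOf a t)).left hisoL
        hom_f := congrArg CommaMorphism.left (endOf_snd (famOf a t))
        i_hom := by
          rw [← hi]
          change (lift (𝟙 X) (toUnit X ≫ s) ≫ endOf (famOf a t)).left = _
          congr 1
          apply CartesianMonoidalCategory.hom_ext
          · rw [Category.assoc, endOf_fst, lift_fst, famOf, ← Category.assoc, comp_lift, lift_snd_assoc, lift_fst]
            rw [Category.assoc, ht,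
              show lift (toUnit X ≫ η[G]) (𝟙 X) = lift (toUnit X) (𝟙 X) ≫ (η[G] ▷ X) by simp,
              Category.assoc, a.one_act, lift_leftUnitor_hom]
          · rw [Category.assoc, endOf_snd] }
    have hend : endOf (famOf a t) = 𝟙 _ := Over.OverMorphism.ext (h e)
    have hfst : famOf a t = fst X (dualPt k) := by
      have := endOf_fst (famOf a t)
      rwa [hend, Category.id_comp, eq_comm] at this
    obtain ⟨g0, -, huniq⟩ := (represents_iff G a).1 hG (dualPt k) (fst X (dualPt k)) hid
    exact (huniq _ hfst).trans (huniq _ hfam).symm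

lemma rigid_iff_der_eq_zero [IsSeparated X.hom] :
    (∀ e : (DefSch.trivial X.left X.hom (flat_of_field X.hom) (Art.dual k k)).Iso
        (DefSch.trivial X.left X.hom (flat_of_field X.hom) (Art.dual k k)), e.iso.hom = 𝟙 _) ↔
      ∀ (D : OmegaSh.Der X.hom (Coh.structureModule X.left)) (U : X.left.Opens) (s : Γ(X.left, U)),
        D.app U s = 0 := by
  refine ⟨fun hrig D W a => ?_, fun h0 e => eq_id_of_ders_eq_zero h0 _ _ e⟩
  refine eq_of_affine_rs (X := X.left) (OmegaSh.fnSect X.left W (D.app W a)) (0 : Γ(X.left, W)) fun W' hW' hle => ?_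
  rw [map_zero]
  refine (D.d_map (homOfLE hle).op a).symm.trans ?_
  refine der_eq_zero_of_rigid (SHom.fst (Art.ofBase (Art.dual k k)) (DefSch.self X.left X.hom (flat_of_field X.hom)))
    (DualNumber.eps : DualNumber k) D DualNumber.eps_mul_eps DualNumber.fst_eps
    (fun h => one_ne_zero (α := k) (congrArg TrivSqZeroExt.snd h)) (fun m hm => ?_) hrig hW' _
  have h0 : TrivSqZeroExt.fst m = 0 := ((Art.dual k k).mem_maximalIdeal_iff m).1 hm
  change (HMul.hMul (α := DualNumber k) m DualNumber.eps) = 0
  refine TrivSqZeroExt.ext ?_ ?_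
  · rw [TrivSqZeroExt.fst_mul, h0, zero_mul, TrivSqZeroExt.fst_zero]
  · rw [TrivSqZeroExt.snd_mul, h0, DualNumber.fst_eps]; simp

theorem formallyUnramified_aut_iff (G : Over (Spec (CommRingCat.of k))) [GrpObj G] [LocallyOfFiniteType G.hom]
    [IsSeparated X.hom] (a : AlgGrp.Action G X) (hG : AutSch.Represents X G a) :
    FormallyUnramified G.hom ↔
      ∀ (D : OmegaSh.Der X.hom (Coh.structureModule X.left)) (U : X.left.Opens) (s : Γ(X.left, U)),
        D.app U s = 0 := by
  rw [← rigid_iff_der_eq_zero, ← noTangent_iff_rigid G a hG]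
  exact ⟨fun _ => noTangent_of_formallyUnramified G, formallyUnramified_of_noTangent G⟩

end Aut

end Groth.Misc71
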